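import Mathlib
import Groth.Agent.S16599

/-!
# Rational points of opens in vector bundles over LG-rings
-/

set_option autoImplicit false

universe u

open AlgebraicGeometry MvPolynomial

namespace Groth.Agent.LG88.Sym

variable {R : Type u} [CommRing R] {N : Type u} [AddCommGroup N] [Module R N] {n : ℕ}
  (p : (Fin n → R) →ₗ[R] N) (s : N →ₗ[R] (Fin n → R)) (hps : ∀ y, p (s y) = y)

/-- The embedding of the symmetric algebra of a summand into polynomials. -/
noncomputable def σ : SymmetricAlgebra R N →ₐ[R] MvPolynomial (Fin n) R :=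
  SymmetricAlgebra.lift ((Fintype.linearCombination R (X : Fin n → MvPolynomial (Fin n) R)).comp s)

lemma σ_ι (y : N) : σ s (SymmetricAlgebra.ι R N y) = ∑ i, s y i • X i := by
  simp [σ, Fintype.linearCombination_apply]

/-- The projection of polynomials onto the symmetric algebra. -/
noncomputable def π : MvPolynomial (Fin n) R →ₐ[R] SymmetricAlgebra R N :=
  aeval fun i => SymmetricAlgebra.ι R N (p (Pi.single i 1))

include hps in
lemma π_σ : (π p).comp (σ s) = AlgHom.id R _ := by
  refine SymmetricAlgebra.algHom_ext (LinearMap.ext fun y => ?_)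
  show π p (σ s (SymmetricAlgebra.ι R N y)) = SymmetricAlgebra.ι R N y
  conv_rhs => rw [← hps y, pi_eq_sum_univ' (s y)]
  rw [σ_ι, map_sum, map_sum, map_sum]
  refine Finset.sum_congr rfl fun i _ => ?_
  simp [π]

include hps in
lemma lift_eq {A : Type u} [CommRing A] [Algebra R A] (φ : N →ₗ[R] A) :
    SymmetricAlgebra.lift φ = (aeval fun i => φ (p (Pi.single i 1))).comp (σ s) := by
  refine SymmetricAlgebra.algHom_ext (LinearMap.ext fun y => ?_)
  show SymmetricAlgebra.lift φ (SymmetricAlgebra.ι R N y) =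
    aeval (fun i => φ (p (Pi.single i 1))) (σ s (SymmetricAlgebra.ι R N y))
  rw [SymmetricAlgebra.lift_ι_apply, σ_ι, map_sum]
  conv_lhs => rw [← hps y, pi_eq_sum_univ' (s y)]
  simp [map_sum, map_smul]

lemma range_comp {A B C : Type u} [CommRing A] [CommRing B] [CommRing C] (f : A →+* B) (g : B →+* C)
    (U : (Spec (CommRingCat.of A)).Opens) :
    Set.range (Spec.map (CommRingCat.ofHom (g.comp f))).base ⊆ (U : Set ↥(Spec (CommRingCat.of A))) ↔
      Set.range (Spec.map (CommRingCat.ofHom g)).base ⊆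
        ((Spec.map (CommRingCat.ofHom f)) ⁻¹ᵁ U : Set ↥(Spec (CommRingCat.of B))) := by
  rw [CommRingCat.ofHom_comp, Spec.map_comp]
  constructor
  · rintro h _ ⟨P, rfl⟩
    exact h ⟨P, rfl⟩
  · rintro h _ ⟨P, rfl⟩
    exact h ⟨P, rfl⟩

include hps in
theorem exists_point (hR : LGRing.IsLGRing R)
    (U : (Spec (CommRingCat.of (SymmetricAlgebra R N))).Opens)
    (hU : IsCompact (U : Set ↥(Spec (CommRingCat.of (SymmetricAlgebra R N)))))
    (h : ∀ (m : Ideal R) [m.IsMaximal], ∃ φ : N →ₗ[R] (R ⧸ m),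
      Set.range (Spec.map (CommRingCat.ofHom (SymmetricAlgebra.lift φ).toRingHom)).base ⊆
        (U : Set ↥(Spec (CommRingCat.of (SymmetricAlgebra R N))))) :
    ∃ φ : N →ₗ[R] R, Set.range (Spec.map (CommRingCat.ofHom (SymmetricAlgebra.lift φ).toRingHom)).base ⊆
        (U : Set ↥(Spec (CommRingCat.of (SymmetricAlgebra R N)))) := by
  let f := Spec.map (CommRingCat.ofHom (σ s).toRingHom)
  obtain ⟨x, hx⟩ := Groth.Agent.S16599.result hR n (f ⁻¹ᵁ U)
    (f.isCompact_preimage hU) (fun m _ => by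
      obtain ⟨φ, hφ⟩ := h m
      refine ⟨fun i => φ (p (Pi.single i 1)), ?_⟩
      rw [lift_eq p s hps φ, show ((aeval fun i => φ (p (Pi.single i 1))).comp (σ s)).toRingHom =
        (aeval (R := R) fun i => φ (p (Pi.single i 1))).toRingHom.comp (σ s).toRingHom from rfl,
        range_comp] at hφ
      exact hφ)
  let φ : N →ₗ[R] R := ((aeval (R := R) x).comp (σ s)).toLinearMap.comp (SymmetricAlgebra.ι R N)
  refine ⟨φ, ?_⟩
  have hl : SymmetricAlgebra.lift φ = (aeval (R := R) x).comp (σ s) := by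
    refine SymmetricAlgebra.algHom_ext (LinearMap.ext fun y => ?_)
    exact SymmetricAlgebra.lift_ι_apply φ y
  rw [hl, show ((aeval (R := R) x).comp (σ s)).toRingHom = (aeval (R := R) x).toRingHom.comp (σ s).toRingHom from rfl,
    range_comp]
  exact hx

theorem point_mod {A : Type u} [CommRing A] [Algebra R A] (U : (Spec (CommRingCat.of (SymmetricAlgebra R N))).Opens)
    (φ : N →ₗ[R] R) (h : Set.range (Spec.map (CommRingCat.ofHom (SymmetricAlgebra.lift φ).toRingHom)).base ⊆
        (U : Set ↥(Spec (CommRingCat.of (SymmetricAlgebra R N))))) :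
    Set.range (Spec.map (CommRingCat.ofHom (SymmetricAlgebra.lift ((Algebra.linearMap R A).comp φ)).toRingHom)).base ⊆
        (U : Set ↥(Spec (CommRingCat.of (SymmetricAlgebra R N)))) := by
  have : SymmetricAlgebra.lift ((Algebra.linearMap R A).comp φ) = (Algebra.ofId R A).comp (SymmetricAlgebra.lift φ) := by
    refine SymmetricAlgebra.algHom_ext (LinearMap.ext fun y => ?_)
    show SymmetricAlgebra.lift ((Algebra.linearMap R A).comp φ) (SymmetricAlgebra.ι R N y) =
      algebraMap R A (SymmetricAlgebra.lift φ (SymmetricAlgebra.ι R N y))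
    rw [SymmetricAlgebra.lift_ι_apply, SymmetricAlgebra.lift_ι_apply]
    rfl
  rw [this, show ((Algebra.ofId R A).comp (SymmetricAlgebra.lift φ)).toRingHom =
    (algebraMap R A).comp (SymmetricAlgebra.lift φ).toRingHom from rfl, range_comp]
  rintro _ ⟨P, rfl⟩
  exact h ⟨_, rfl⟩

include hps in
theorem exists_residue_point (m : Ideal R) [m.IsMaximal] [Infinite (R ⧸ m)]
    (U : (Spec (CommRingCat.of (SymmetricAlgebra R N))).Opens)
    (hdense : Dense ((Spec.map (CommRingCat.ofHom (Ideal.Quotient.mk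
      (Ideal.map (algebraMap R (SymmetricAlgebra R N)) m)))).base ⁻¹'
        (U : Set ↥(Spec (CommRingCat.of (SymmetricAlgebra R N)))))) :
    ∃ φ : N →ₗ[R] (R ⧸ m), Set.range (Spec.map (CommRingCat.ofHom (SymmetricAlgebra.lift φ).toRingHom)).base ⊆
        (U : Set ↥(Spec (CommRingCat.of (SymmetricAlgebra R N)))) := by
  letI := Ideal.Quotient.field m
  let S := SymmetricAlgebra R N
  let mS := Ideal.map (algebraMap R S) m
  -- the closed fibre is nonempty
  have hne : Nonempty ↥(Spec (CommRingCat.of (S ⧸ mS))) := by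
    let z : S →ₐ[R] R ⧸ m := SymmetricAlgebra.lift 0
    have hz : ∀ a ∈ mS, z a = 0 := by
      have : mS ≤ RingHom.ker z.toRingHom := Ideal.map_le_iff_le_comap.2 fun r hr => by
        show z (algebraMap R S r) = 0
        rw [AlgHom.commutes]
        exact Ideal.Quotient.eq_zero_iff_mem.2 hr
      exact fun a ha => this ha
    exact ⟨PrimeSpectrum.comap (Ideal.Quotient.lift mS z.toRingHom hz) ⟨⊥, Ideal.isPrime_bot⟩⟩
  obtain ⟨P, -, hP⟩ := hdense.inter_open_nonempty Set.univ isOpen_univ Set.univ_nonempty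
  obtain ⟨_, ⟨g, rfl⟩, hPg, hgU⟩ :=
    (PrimeSpectrum.isTopologicalBasis_basic_opens (R := S)).exists_subset_of_mem_open
      (show (Spec.map (CommRingCat.ofHom (Ideal.Quotient.mk mS))).base P ∈ (U : Set _) from hP) U.2
  have hg : g ∉ mS := fun hg => hPg (by
    show Ideal.Quotient.mk mS g ∈ P.asIdeal
    rw [Ideal.Quotient.eq_zero_iff_mem.2 hg]
    exact zero_mem _)
  have hσ : MvPolynomial.map (Ideal.Quotient.mk m) (σ s g) ≠ 0 := fun h0 => hg (by
    have h1 : σ s g ∈ Ideal.map (C : R →+* MvPolynomial (Fin n) R) m := by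
      rw [MvPolynomial.mem_map_C_iff]
      intro d
      rw [← Ideal.Quotient.eq_zero_iff_mem, ← MvPolynomial.coeff_map, h0, MvPolynomial.coeff_zero]
    have h2 : π p (σ s g) ∈ mS := by
      have h3 := Ideal.mem_map_of_mem (π p).toRingHom h1
      rw [Ideal.map_map] at h3
      rwa [show (π p).toRingHom.comp (C : R →+* MvPolynomial (Fin n) R) = algebraMap R S from
        RingHom.ext fun r => (π p).commutes r] at h3
    rwa [show π p (σ s g) = g from DFunLike.congr_fun (π_σ p s hps) g] at h2)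
  obtain ⟨x, hx⟩ : ∃ x : Fin n → R ⧸ m, MvPolynomial.eval x (MvPolynomial.map (Ideal.Quotient.mk m) (σ s g)) ≠ 0 := by
    by_contra h
    push Not at h
    exact hσ (MvPolynomial.funext fun x => by rw [h x, map_zero])
  let φ : N →ₗ[R] R ⧸ m := ((aeval (R := R) x).comp (σ s)).toLinearMap.comp (SymmetricAlgebra.ι R N)
  refine ⟨φ, ?_⟩
  have hl : SymmetricAlgebra.lift φ = (aeval (R := R) x).comp (σ s) := by
    refine SymmetricAlgebra.algHom_ext (LinearMap.ext fun y => ?_)
    exact SymmetricAlgebra.lift_ι_apply φ y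
  rintro _ ⟨Q, rfl⟩
  refine hgU fun hQ => Q.isPrime.ne_top (Ideal.eq_top_of_isUnit_mem _ hQ (isUnit_iff_ne_zero.2 ?_))
  rw [hl]
  show aeval (R := R) x (σ s g) ≠ 0
  rwa [MvPolynomial.eval_map] at hx

end Groth.Agent.LG88.Sym
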